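import Cfsg.Agent.H6.AFour.Count

/-!
# Case B: no group of degree twenty
-/

set_option autoImplicit false
set_option linter.unusedSectionVars false

namespace Cfsg.Agent.H6.AFour

open MulAction

variable {G Ω : Type*} [Group G] [MulAction G Ω]

namespace Hyp

variable (h : Hyp G Ω) [Finite G] [Finite Ω]
include h

theorem not_deg_twenty (hA : AllT G Ω) {t : G} (ht : IsT Ω t) (hf : fixCard Ω t = 4)
    (hd : Nat.card Ω = 20) : False := by
  classical
  have : Fact (Nat.Prime 19) := ⟨by norm_num⟩
  have hG : Nat.card G = 4560 := by rw [h.card_group, hd]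
  have hC : ∀ i : G, Inv i → Nat.card (Subgroup.centralizer ({i} : Set G)) = 48 := fun i hi => by
    rw [h.card_centralizer (hA i hi), h.fixCard_eq (hA i hi) ht, hf]
  obtain ⟨P⟩ : Nonempty (Sylow 19 G) := inferInstance
  have hPc : Nat.card (P : Subgroup G) = 19 := by
    rw [Sylow.card_eq_multiplicity, hG, Nat.factorization_def _ (by norm_num : Nat.Prime 19)]
    have : padicValNat 19 4560 = 1 := by
      rw [show 4560 = 19 ^ 1 * 240 by norm_num, padicValNat.mul (by norm_num) (by norm_num),
        padicValNat.prime_pow, padicValNat.eq_zero_of_not_dvd (by norm_num)]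
    rw [this, pow_one]
  set N := Subgroup.normalizer ((P : Subgroup G) : Set G) with hN
  have hns : Nat.card (Sylow 19 G) = N.index := P.card_eq_index_normalizer
  have hNG := N.card_mul_index
  rw [hG] at hNG
  have hcases : N.index = 1 ∨ N.index = 20 := by
    have hmod := card_sylow_modEq_one 19 G
    rw [hns] at hmod
    have hdd : N.index ∈ Nat.divisors 4560 := Nat.mem_divisors.2 ⟨⟨Nat.card N, by rw [mul_comm, hNG]⟩, by norm_num⟩
    generalize N.index = m at hmod hdd
    have key : ∀ m ∈ Nat.divisors 4560, m % 19 = 1 → m = 1 ∨ m = 20 := by decide +kernel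
    exact key m hdd (by rw [hmod])
  rcases hcases with h1 | h20
  · have : Subsingleton (Sylow 19 G) := (Nat.card_eq_one_iff_unique.1 (hns.trans h1)).1
    have hPn : (P : Subgroup G).Normal := P.normal_of_subsingleton
    obtain ⟨x, -⟩ := h.nontriv
    haveI := h.faithful
    have hne : (P : Subgroup G) ≠ ⊥ := fun e => by rw [e, Subgroup.card_bot] at hPc; norm_num at hPc
    have h20 := H36.CyZ.card_dvd_of_trans (P : Subgroup G) x (H36.CyZ.normal_trans h.two (P : Subgroup G) hne x)
    rw [hd, hPc] at h20
    norm_num at h20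
  · rw [h20] at hNG
    have hNc : Nat.card N = 228 := by omega
    let φ : N →* MulAut (P : Subgroup G) := (P : Subgroup G).normalizerMonoidHom
    have hr : Nat.card φ.range ∣ 18 := by
      have : IsCyclic (P : Subgroup G) := isCyclic_of_prime_card hPc
      refine (Subgroup.card_subgroup_dvd_card _).trans ?_
      rw [IsCyclic.card_mulAut, hPc, Nat.totient_prime (by norm_num)]
    have hk : 2 ∣ Nat.card φ.ker := by
      have e := φ.ker.card_mul_index
      rw [Subgroup.index_ker, hNc] at e
      by_contra k
      have hco : Nat.Coprime 4 (Nat.card φ.ker) :=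
        (Nat.Prime.coprime_iff_not_dvd Nat.prime_two).2 k |>.pow_left 2
      have h4 : 4 ∣ Nat.card φ.range := hco.dvd_of_dvd_mul_left ⟨57, e⟩
      have := h4.trans hr
      norm_num at this
    have : Fact (Nat.Prime 2) := ⟨Nat.prime_two⟩
    obtain ⟨i, hi⟩ := exists_prime_orderOf_dvd_card' (G := φ.ker) 2 hk
    have hiG : orderOf ((i : N) : G) = 2 := by rw [Subgroup.orderOf_coe, Subgroup.orderOf_coe]; exact hi
    have hle : (P : Subgroup G) ≤ Subgroup.centralizer ({((i : N) : G)} : Set G) := fun u hu => by
      have := congrArg (fun (ψ : MulAut (P : Subgroup G)) => ((ψ ⟨u, hu⟩ : (P : Subgroup G)) : G))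
        (i.2 : φ i = 1)
      change ((i : N) : G) * u * ((i : N) : G)⁻¹ = u at this
      exact Subgroup.mem_centralizer_singleton_iff.2 (mul_inv_eq_iff_eq_mul.1 this).symm
    have := Subgroup.card_dvd_of_le hle
    rw [hPc, hC _ (inv_of_orderOf hiG)] at this
    norm_num at this

end Hyp

end Cfsg.Agent.H6.AFour
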