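import Cfsg.Agent.H6.AFour.BThin.Basic
import Cfsg.Agent.H6.AFour.BThin.Twenty
import Cfsg.Agent.H6.AFour.FlatAction

/-!
# Case B, thin, square fixed point number, even: impossible
-/

set_option autoImplicit false
set_option linter.unusedSectionVars false
set_option linter.style.haveILetI false

namespace Cfsg.Agent.H6.AFour

open MulAction

variable {G Ω : Type*} [Group G] [MulAction G Ω]

namespace Hyp

variable (h : Hyp G Ω) [Finite G] [Finite Ω]
include h

/-- The preimage of the translations. -/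
theorem translations_square_even (hn : ¬ NoMid G Ω) (hth : ¬ Flat G Ω) {t : G} (ht : IsT Ω t)
    (hev : Even (fixCard Ω t)) {τ : ↥(centImage Ω t)} (hτ : Two.IsTau ↥(fixedBy Ω t) τ)
    (hex : ∃ q, Two.IsSwap (Δ := ↥(fixedBy Ω t)) (q : ↥(centImage Ω t))) :
    ∃ (N : Subgroup ↥(centImage Ω t)) (i : ℕ), N.Normal ∧ fixCard Ω t = 2 ^ i ∧
      Nat.card N = fixCard Ω t ∧ (∀ n ∈ N, ∀ z : ↥(fixedBy Ω t), n • z = z → n = 1) ∧
      (∀ a b : ↥(fixedBy Ω t), ∃ n ∈ N, n • a = b) ∧
      (∀ g ∈ pre Ω t N, g * g = 1) := by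
  classical
  have two := h.two_hyp hth ht
  have hev' : Even (Nat.card ↥(fixedBy Ω t)) := hev
  obtain ⟨p, N, hp, hNn, hNp, -, hNc, hNtr⟩ := two.exists_regular hex
  have : Fact p.Prime := ⟨hp⟩
  obtain ⟨i, hi⟩ := hNp.exists_card_eq
  have hNc' : Nat.card N = fixCard Ω t := hNc
  have hf2 : 2 ≤ fixCard Ω t := two_le_fixCard h ht
  have hp2 : p = 2 := by
    rw [← hNc', hi, Nat.even_pow] at hev
    exact (hp.eq_two_or_odd').resolve_right (Nat.not_odd_iff_even.2 hev.1)
  subst hp2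
  have hinj : ∀ z : ↥(fixedBy Ω t), Function.Injective fun n : N => (n : ↥(centImage Ω t)) • z := by
    intro z
    have hs : Function.Surjective fun n : N => (n : ↥(centImage Ω t)) • z := fun b =>
      let ⟨n, hn, e⟩ := hNtr z b
      ⟨⟨n, hn⟩, e⟩
    exact ((Nat.bijective_iff_surjective_and_card _).2 ⟨hs, hNc⟩).1
  have hfree : ∀ n ∈ N, ∀ z : ↥(fixedBy Ω t), n • z = z → n = 1 := fun n hn z e =>
    congrArg Subtype.val (@hinj z ⟨n, hn⟩ 1 (by simpa using e))
  have hsq : ∀ n ∈ N, n * n = 1 := by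
    intro n hn
    by_cases n1 : n = 1
    · rw [n1, one_mul]
    rcases two.dichotomy hτ with ⟨hall, -⟩ | ⟨-, huniq⟩
    · obtain ⟨q, hq⟩ := hex
      exact absurd hq (hall q hq.1).not_isSwap
    obtain ⟨z, hz⟩ := two.exists_moved n1
    obtain ⟨s, ⟨hs, hsz⟩, -⟩ := huniq z (n • z) (Ne.symm hz)
    have hsN := two.mem_regular_of_even hev' hNn hNc hNtr hs
    have e : (⟨s, hsN⟩ : N) = ⟨n, hn⟩ := hinj z hsz
    have e' : s = n := congrArg Subtype.val e
    rw [← e']
    exact H70.SameFix.sq_of_orderOf hs.1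
  refine ⟨N, i, hNn, hNc'.symm.trans hi, hNc', hfree, hNtr, fun g hg => ?_⟩
  obtain ⟨hgC, hgN⟩ := mem_pre.1 hg
  exact h.sq_of_lift hn hth ht (g := ⟨g, hgC⟩) (hsq _ hgN)

/-- The centraliser is the whole normaliser of the translations. -/
theorem normalizer_translations (hA : AllT G Ω) (hn : ¬ NoMid G Ω) (hth : ¬ Flat G Ω) {t : G}
    (ht : IsT Ω t) (hev : Even (fixCard Ω t)) {E : Subgroup G}
    (hEC : E ≤ Subgroup.centralizer ({t} : Set G))
    (hCE : Subgroup.centralizer ({t} : Set G) ≤ Subgroup.normalizer (E : Set G)) (htE : t ∈ E)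
    (hEc : Nat.card E = 2 * fixCard Ω t) (hsq : ∀ g ∈ E, g * g = 1)
    (hfree : ∀ g ∈ E, ∀ z : Ω, t • z = z → g • z = z → g = 1 ∨ g = t) :
    Subgroup.normalizer (E : Set G) ≤ Subgroup.centralizer ({t} : Set G) := by
  classical
  set C := Subgroup.centralizer ({t} : Set G) with hC
  set f := fixCard Ω t with hf
  have hf2 : 2 ≤ f := two_le_fixCard h ht
  obtain ⟨x, y, hxy, hx, hy⟩ := ht.2
  have hcomm : ∀ {a b : G}, a ∈ E → b ∈ E → a * b = b * a := mul_comm_of_sq hsq
  let cls : G → Set G := fun u => {w | ∃ c ∈ C, c * u * c⁻¹ = w}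
  set R : Set G := (E : Set G) \ {1, t} with hR
  have hRc : R.ncard = 2 * f - 2 := by
    rw [hR, Set.ncard_sdiff (by rintro a (rfl | rfl); exacts [one_mem _, htE]), ← Nat.card_coe_set_eq,
      show Nat.card ↥(E : Set G) = 2 * f from hEc, Set.ncard_pair ht.1.1.symm]
  have hRt : ∀ u ∈ R, u * t ∈ R := by
    rintro u ⟨hu, hu'⟩
    refine ⟨mul_mem hu htE, ?_⟩
    rintro (k | k)
    · exact hu' (Or.inr (by rw [eq_inv_of_mul_eq_one_left k, ht.1.inv_eq]; rfl))
    · exact hu' (Or.inl (mul_eq_right.1 k))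
  have hux : ∀ u ∈ R, u • x ≠ x := fun u hu k => hu.2 (by
    rcases hfree u hu.1 x hx k with e | e <;> rw [e]
    exacts [Or.inl rfl, Or.inr rfl])
  have hsub : ∀ u ∈ R, cls u ⊆ R := by
    rintro u hu _ ⟨c, hc, rfl⟩
    refine ⟨(Subgroup.mem_normalizer_iff.1 (hCE hc) u).1 hu.1, ?_⟩
    rintro (k | k)
    · exact hu.2 (Or.inl (conj_eq_one_iff.1 k))
    · refine hu.2 (Or.inr (mul_left_cancel (mul_right_cancel (k.trans ?_))))
      rw [Subgroup.mem_centralizer_singleton_iff.1 hc, mul_inv_cancel_right]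
  have hcov : ∀ u ∈ R, ∀ w ∈ R, w ∈ cls u ∨ w ∈ cls (u * t) := by
    intro u hu w hw
    obtain ⟨c, hc, cx, cu⟩ := h.witt ht.1 (Ne.symm (hux u hu)) (Ne.symm (hux w hw)) hx
      (cent_fixed (hEC hu.1) hx) hx (cent_fixed (hEC hw.1) hx)
    have hu' : c * u * c⁻¹ ∈ E := (Subgroup.mem_normalizer_iff.1 (hCE hc) u).1 hu.1
    have e : (w⁻¹ * (c * u * c⁻¹)) • x = x := by
      rw [mul_smul, mul_smul, mul_smul, inv_smul_eq_iff.2 cx.symm, cu, inv_smul_smul]
    rcases hfree _ (mul_mem (inv_mem hw.1) hu') x hx e with k | k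
    · exact Or.inl ⟨c, hc, (inv_mul_eq_one.1 k).symm⟩
    · refine Or.inr ⟨c, hc, ?_⟩
      rw [show c * (u * t) * c⁻¹ = c * u * c⁻¹ * (c * t * c⁻¹) by group,
        inv_mul_eq_iff_eq_mul.1 k, Subgroup.mem_centralizer_singleton_iff.1 hc, mul_inv_cancel_right,
        mul_assoc, ht.1.2, mul_one]
  have hbig : ∀ u ∈ R, (cls u).ncard ≤ f - 1 := by
    intro u hu
    have h1 := card_eq_conj_mul C u (cls u) fun w => Iff.rfl
    rw [h.card_centralizer ht, ← hf] at h1
    have hne := Ne.symm (hux u hu)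
    obtain ⟨v, hv, v1, vt⟩ := h.exists_third hne t
    have hux' : t • u • x = u • x := cent_fixed (hEC hu.1) hx
    have htV : t ∈ h.four hne := ⟨mem_tw.2 ⟨hx, hux'⟩, ht.1.2⟩
    obtain ⟨J, hJ⟩ := h.exists_mid hn hne
    have hus : u ∈ swaps G x (u • x) := ⟨⟨fun k => hu.2 (Or.inl k), hsq u hu.1⟩, rfl⟩
    have huv : u * v = v * u := h.mid_mem_centralizer hne hne (left_mem_line _ _) (right_mem_line _ _)
      hJ hus hv
    have hle : E ⊔ Subgroup.zpowers v ≤ C ⊓ Subgroup.centralizer ({u} : Set G) := by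
      refine sup_le (fun e he => ⟨hEC he, ?_⟩) (Subgroup.zpowers_le.2 ⟨?_, ?_⟩)
      · exact Subgroup.mem_centralizer_singleton_iff.2 (hcomm he hu.1)
      · exact Subgroup.mem_centralizer_singleton_iff.2 (h.four_comm hne hv htV)
      · exact Subgroup.mem_centralizer_singleton_iff.2 huv.symm
    have hvE : v ∉ E := fun k => by
      rcases hfree v k x hx (mem_tw.1 hv.1).1 with e | e
      · exact v1 e
      · exact vt e
    have h2 : 2 * (2 * f) ≤ Nat.card ↥(E ⊔ Subgroup.zpowers v) := by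
      obtain ⟨q, hq⟩ := Subgroup.card_dvd_of_le (le_sup_left : E ≤ E ⊔ Subgroup.zpowers v)
      rw [hEc] at hq
      rw [hq, mul_comm 2 (2 * f)]
      refine Nat.mul_le_mul_left _ ?_
      by_contra k
      have hq1 : q ≤ 1 := by omega
      have : E = E ⊔ Subgroup.zpowers v := Subgroup.eq_of_le_of_card_ge le_sup_left (by
        rw [hq, hEc]; exact (Nat.mul_le_mul_left _ hq1).trans (by rw [mul_one]))
      exact hvE (this ▸ le_sup_right (a := E) (Subgroup.mem_zpowers v))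
    have h3 := Subgroup.card_le_of_le hle
    by_contra k
    have h4 : f * (4 * f) ≤ (cls u).ncard * Nat.card ↥(C ⊓ Subgroup.centralizer ({u} : Set G)) :=
      Nat.mul_le_mul (by omega) (by omega)
    rw [← h1] at h4
    have h5 : f * (4 * f) = 4 * (f * (f - 1)) + 4 * f := by
      obtain ⟨j, hj⟩ := Nat.exists_eq_add_of_le hf2
      rw [hj, show 2 + j - 1 = 1 + j by omega]
      ring
    omega
  -- the orbit of `t`
  set K := Subgroup.normalizer (E : Set G) with hK
  set T : Set G := {w | ∃ n ∈ K, n * t * n⁻¹ = w}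
  have htT : t ∈ T := ⟨1, one_mem _, by group⟩
  have hKst : K ⊓ C = C := inf_eq_right.2 hCE
  have h1 := card_eq_conj_mul K t T fun w => Iff.rfl
  rw [hKst] at h1
  have hTdvd : T.ncard ∣ C.index := by
    refine ⟨K.index, Nat.eq_of_mul_eq_mul_left (show 0 < Nat.card C from Nat.card_pos) ?_⟩
    calc Nat.card C * C.index = Nat.card K * K.index := by rw [C.card_mul_index, K.card_mul_index]
      _ = _ := by rw [h1]; ring
  have hTsub : T ⊆ insert t R := by
    rintro _ ⟨n, hn', rfl⟩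
    by_cases k : n * t * n⁻¹ = t
    · exact Or.inl k
    · refine Or.inr ⟨(Subgroup.mem_normalizer_iff.1 hn' t).1 htE, ?_⟩
      rintro (e | e)
      · exact ht.1.1 (conj_eq_one_iff.1 e)
      · exact k e
  have hTcls : ∀ u ∈ T, cls u ⊆ T := by
    rintro _ ⟨n, hn', rfl⟩ _ ⟨c, hc, rfl⟩
    exact ⟨c * n, mul_mem (hCE hc) hn', by group⟩
  have hTodd : Odd T.ncard := (h.index_odd hA hn ht).of_dvd_nat hTdvd
  by_contra hne
  obtain ⟨n₀, hn₀, hn₀'⟩ := SetLike.not_le_iff_exists.1 hne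
  have hn₀t : n₀ * t * n₀⁻¹ ≠ t := fun k => hn₀'
    (Subgroup.mem_centralizer_singleton_iff.2 (mul_inv_eq_iff_eq_mul.1 k))
  have huT : n₀ * t * n₀⁻¹ ∈ T := ⟨n₀, hn₀, rfl⟩
  set u := n₀ * t * n₀⁻¹ with hu
  have huR : u ∈ R := (hTsub huT).resolve_left hn₀t
  -- the classes
  have hA1 := hbig u huR
  have hA2 := hbig (u * t) (hRt u huR)
  have hRU : R = cls u ∪ cls (u * t) := Set.Subset.antisymm (fun w hw => hcov u huR w hw)
    (Set.union_subset (hsub u huR) (hsub _ (hRt u huR)))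
  have hsum := Set.ncard_union_le (cls u) (cls (u * t))
  rw [← hRU, hRc] at hsum
  have htR : t ∉ R := fun k => k.2 (Or.inr rfl)
  have hTR : T.ncard = (T ∩ R).ncard + 1 := by
    rw [← Set.ncard_insert_of_notMem (show t ∉ T ∩ R from fun k => htR k.2) (Set.toFinite _)]
    congr 1
    ext w
    exact ⟨fun k => (hTsub k).imp id fun k' => ⟨k, k'⟩, fun k => k.elim (fun e => e ▸ htT) And.left⟩
  by_cases hcase : ∃ w ∈ T, w ∈ cls (u * t)
  · obtain ⟨w, hw, c, hc, rfl⟩ := hcase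
    have hutT : u * t ∈ T := hTcls _ hw ⟨c⁻¹, inv_mem hc, by group⟩
    have hall : T ∩ R = R := Set.inter_eq_right.2 (by
      rw [hRU]
      exact Set.union_subset (hTcls u huT) (hTcls _ hutT))
    rw [hall, hRc] at hTR
    have hd : 2 * f - 1 ∣ (4 * f - 1) * (4 * f + 3) := by
      rw [← (h.eqs_B hA hn ht).2]
      exact dvd_mul_of_dvd_right ((show 2 * f - 1 = T.ncard by omega) ▸ hTdvd) 3
    have h5 : 2 * f - 1 ∣ 5 := by
      have e : (4 * f - 1) * (4 * f + 3) = (2 * f - 1) * (8 * f + 8) + 5 := by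
        obtain ⟨j, hj⟩ := Nat.exists_eq_add_of_le hf2
        rw [hj, show 4 * (2 + j) - 1 = 7 + 4 * j by omega, show 2 * (2 + j) - 1 = 3 + 2 * j by omega]
        ring
      rw [e] at hd
      exact (Nat.dvd_add_right (dvd_mul_right _ _)).1 hd
    rcases (Nat.dvd_prime (by norm_num)).1 h5 with e | e
    · omega
    · rw [Nat.even_iff] at hev
      omega
  · push Not at hcase
    have hall : T ∩ R = cls u := by
      refine Set.Subset.antisymm (fun w hw => ?_) fun w hw => ⟨hTcls u huT hw, hsub u huR hw⟩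
      exact (hRU ▸ hw.2 : w ∈ cls u ∪ cls (u * t)).resolve_right (hcase w hw.1)
    rw [hall] at hTR
    have : (cls u).ncard = f - 1 := by omega
    rw [hTR, this, Nat.odd_iff] at hTodd
    rw [Nat.even_iff] at hev
    omega

/-- No even square fixed point number. -/
theorem caseB_square_even_false (hA : AllT G Ω) (hn : ¬ NoMid G Ω) (hth : ¬ Flat G Ω) {x y : Ω}
    (hxy : x ≠ y) {t w : G} (htV : t ∈ h.four hxy) (t1 : t ≠ 1) (hw : w ∈ h.four hxy) (w1 : w ≠ 1)
    (wt : w ≠ t) (hev : Even (fixCard Ω t))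
    (hsquare : fixCard Ω t = (line G x y).ncard ^ 2)
    (hex : ∃ q, Two.IsSwap (Δ := ↥(fixedBy Ω t)) (q : ↥(centImage Ω t))) : False := by
  classical
  have : Fact (Nat.Prime 2) := ⟨Nat.prime_two⟩
  have ht : IsT Ω t := h.isT_of_mem hxy htV.1 ⟨t1, htV.2⟩
  have hwC : w ∈ Subgroup.centralizer ({t} : Set G) :=
    Subgroup.mem_centralizer_singleton_iff.2 (h.four_comm hxy hw htV)
  obtain ⟨hτ, hτc⟩ := h.isTau_of_four hth hxy htV t1 hw w1 wt hwC
  set τ := toImage Ω t ⟨w, hwC⟩ with hτdef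
  obtain ⟨N, i, hNn, hfi, hNc, hfree, hNtr, hsq⟩ := h.translations_square_even hn hth ht hev hτ hex
  have hx : t • x = x := (mem_tw.1 htV.1).1
  have hy : t • y = y := (mem_tw.1 htV.1).2
  set E := pre Ω t N with hEdef
  have hEC : E ≤ Subgroup.centralizer ({t} : Set G) := pre_le t N
  have hCE : Subgroup.centralizer ({t} : Set G) ≤ Subgroup.normalizer (E : Set G) := fun g hg =>
    (mem_normalizer_pre N hg).2 (by rw [Subgroup.normalizer_eq_top N]; trivial)
  have htE : t ∈ E := h.self_mem_pre hth ht N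
  have hEc : Nat.card E = 2 * fixCard Ω t := by rw [hEdef, h.card_pre hth ht, hNc]
  have hfreeE : ∀ g ∈ E, ∀ z : Ω, t • z = z → g • z = z → g = 1 ∨ g = t := by
    intro g hg z hz gz
    obtain ⟨hgC, hgN⟩ := mem_pre.1 hg
    exact (h.toImage_eq_one hth ht ⟨g, hgC⟩).1 (hfree _ hgN ⟨z, hz⟩ (Subtype.ext gz))
  have hNE := h.normalizer_translations hA hn hth ht hev hEC hCE htE hEc hsq hfreeE
  set f := fixCard Ω t with hf
  set e := (line G x y).ncard with he
  have he2 : 2 ≤ e := h.two_le_line hxy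
  have hf2 : 2 ≤ f := two_le_fixCard h ht
  -- a Sylow subgroup
  set S := Subgroup.zpowers w ⊔ E with hS
  have hE2 : IsPGroup 2 E := IsPGroup.of_card (n := i + 1) (by rw [hEc, hfi, pow_succ, mul_comm])
  have hwE : w ∉ E := fun k => by
    rcases hfreeE w k x hx (mem_tw.1 hw.1).1 with e | e
    · exact w1 e
    · exact wt e
  have hZ : IsPGroup 2 (Subgroup.zpowers w) := IsPGroup.of_card (n := 1)
    (by rw [Nat.card_zpowers, (Inv.orderOf ⟨w1, hw.2⟩), pow_one])
  have hS2 : IsPGroup 2 S := hZ.to_sup_of_normal_right' hE2 (Subgroup.zpowers_le.2 (hCE hwC))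
  have hES : E ≤ S := le_sup_right
  have hwS : w ∈ S := le_sup_left (b := E) (Subgroup.mem_zpowers w)
  obtain ⟨j, hj⟩ := hS2.exists_card_eq
  have hSge : 4 * f ≤ Nat.card S := by
    obtain ⟨q, hq⟩ := Subgroup.card_dvd_of_le hES
    rw [hEc] at hq
    rw [hq, show 4 * f = 2 * f * 2 by ring]
    refine Nat.mul_le_mul_left _ ?_
    by_contra k
    have hq1 : q ≤ 1 := by omega
    have : E = S := Subgroup.eq_of_le_of_card_ge hES (by
      rw [hq, hEc]; exact (Nat.mul_le_mul_left _ hq1).trans (by rw [mul_one]))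
    exact hwE (this ▸ hwS)
  obtain ⟨hSc, hSi⟩ := h.index_odd_of_two_part hA hn ht hev hj hSge
  let P : Sylow 2 G := hS2.toSylow hSi
  -- a central involution of `S` in `E` other than `t`
  obtain ⟨q, hq, hqxy⟩ := hNtr ⟨x, hx⟩ ⟨y, hy⟩
  obtain ⟨⟨g, hgC⟩, rfl⟩ := toImage_surjective t q
  have hgE : g ∈ E := mem_pre.2 ⟨hgC, hq⟩
  have hgx : g • x = y := congrArg Subtype.val hqxy
  have hg1 : g ≠ 1 := fun k => hxy (by rw [← hgx, k, one_smul])
  have hgt : g ≠ t := fun k => hxy (by rw [← hgx, k, hx])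
  obtain ⟨J, hJ⟩ := h.exists_mid hn hxy
  have hgw : g * w = w * g := h.mid_mem_centralizer hxy hxy (left_mem_line _ _) (right_mem_line _ _) hJ
    ⟨⟨hg1, hsq g hgE⟩, hgx⟩ hw
  have hcomm : ∀ {a b : G}, a ∈ E → b ∈ E → a * b = b * a := mul_comm_of_sq hsq
  have hcen : ∀ z : G, z ∈ E → z * w = w * z → z ∈ Subgroup.centralizer ((P : Subgroup G) : Set G) := by
    intro z hz hzw
    have hle : S ≤ Subgroup.centralizer ({z} : Set G) :=
      sup_le (Subgroup.zpowers_le.2 (Subgroup.mem_centralizer_singleton_iff.2 hzw.symm))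
        fun u hu => Subgroup.mem_centralizer_singleton_iff.2 (hcomm hu hz)
    exact Subgroup.mem_centralizer_iff.2 fun u hu => Subgroup.mem_centralizer_singleton_iff.1 (hle hu)
  obtain ⟨c, hc⟩ := h.isT_conj ht (hA g ⟨hg1, hsq g hgE⟩)
  obtain ⟨n, hnN, hn'⟩ := P.conj_eq_normalizer_conj_of_mem_centralizer t c⁻¹
    (hcen t htE (h.four_comm hxy htV hw)) (by rw [inv_inv, hc]; exact hcen g hgE hgw)
  rw [inv_inv, hc] at hn'
  -- a second translation group in `S`
  set m := n⁻¹ with hm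
  have hmS : m ∈ Subgroup.normalizer (S : Set G) := inv_mem hnN
  set E2 := E.map (MulAut.conj m).toMonoidHom with hE2def
  have hE2S : E2 ≤ S := by
    rintro _ ⟨u, hu, rfl⟩
    exact (Subgroup.mem_normalizer_iff.1 hmS u).1 (hES hu)
  have hE2c : Nat.card E2 = 2 * f := by
    rw [hE2def, Subgroup.card_map_of_injective (MulAut.conj m).injective, hEc]
  have hne : ¬ E2 ≤ E := by
    intro k
    have k' : E2 = E := Subgroup.eq_of_le_of_card_ge k (by rw [hEc, hE2c])
    have : m ∈ Subgroup.normalizer (E : Set G) := Subgroup.mem_normalizer_iff.2 fun u => by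
      constructor
      · intro hu
        exact k' ▸ ⟨u, hu, rfl⟩
      · intro hu
        rw [← k'] at hu
        obtain ⟨u', hu', e⟩ := hu
        rwa [show u = u' from (MulAut.conj m).injective e.symm]
    refine hgt ?_
    rw [hn', show m * t = t * m from Subgroup.mem_centralizer_singleton_iff.1 (hNE this), hm,
      inv_mul_cancel_right]
  have hE2sq : ∀ u ∈ E2, u * u = 1 := by
    rintro _ ⟨u, hu, rfl⟩
    rw [← map_mul, hsq u hu, map_one]
  obtain ⟨u, hu2, huE⟩ := SetLike.not_le_iff_exists.1 hne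
  set D := E ⊓ E2 with hD
  have hDw : ∀ d ∈ D, d * w = w * d := by
    intro d hd
    have hidx : (E.subgroupOf S).index = 2 := by
      have e := (E.subgroupOf S).card_mul_index
      rw [Nat.card_congr (Subgroup.subgroupOfEquivOfLe hES).toEquiv, hEc, hSc,
        show 4 * f = 2 * f * 2 by ring] at e
      exact Nat.eq_of_mul_eq_mul_left (by omega) e
    have hwu : (⟨w, hwS⟩ : S) * ⟨u, hE2S hu2⟩ ∈ E.subgroupOf S :=
      (Subgroup.mul_mem_iff_of_index_two hidx).2
        ⟨fun k => absurd k hwE, fun k => absurd k huE⟩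
    have hwu' : w * u ∈ E := hwu
    have e : w = (w * u) * u := by rw [mul_assoc, hE2sq u hu2, mul_one]
    rw [e, ← mul_assoc, hcomm hd.1 hwu', mul_assoc, mul_comm_of_sq hE2sq hd.2 hu2, ← mul_assoc]
  have hDc : f ≤ Nat.card D := by
    have h1 : E2.relIndex E ≤ 2 := by
      have h2 : E2.relIndex S = 2 := by
        have e := (E2.subgroupOf S).card_mul_index
        rw [Nat.card_congr (Subgroup.subgroupOfEquivOfLe hE2S).toEquiv, hE2c, hSc,
          show 4 * f = 2 * f * 2 by ring] at e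
        exact Nat.eq_of_mul_eq_mul_left (by omega) e
      rw [← h2]
      exact Subgroup.relIndex_le_of_le_right hES (by rw [h2]; norm_num)
    have h3 := (D.subgroupOf E).card_mul_index
    rw [Nat.card_congr (Subgroup.subgroupOfEquivOfLe (inf_le_left : D ≤ E)).toEquiv, hEc,
      show (D.subgroupOf E).index = E2.relIndex E from Subgroup.inf_relIndex_left E E2] at h3
    have h4 : Nat.card D * E2.relIndex E ≤ Nat.card D * 2 := Nat.mul_le_mul_left _ h1
    rw [← hD] at h3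
    omega
  have hDle : D ≤ pre Ω t (N ⊓ Subgroup.centralizer ({τ} : Set ↥(centImage Ω t))) := by
    intro d hd
    obtain ⟨hdC, hdN⟩ := mem_pre.1 hd.1
    refine mem_pre.2 ⟨hdC, hdN, Subgroup.mem_centralizer_singleton_iff.2 ?_⟩
    rw [hτdef, ← map_mul, ← map_mul]
    exact congrArg _ (Subtype.ext (hDw d hd))
  have hbound : Nat.card D ≤ 2 * e := by
    refine (Subgroup.card_le_of_le hDle).trans ?_
    rw [h.card_pre hth ht]
    refine Nat.mul_le_mul_left 2 ?_
    rw [← hτc, Two.fixCard]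
    have ha : τ • (⟨x, hx⟩ : ↥(fixedBy Ω t)) = ⟨x, hx⟩ := Subtype.ext (mem_tw.1 hw.1).1
    refine Nat.card_le_card_of_injective
      (fun m : ↥(N ⊓ Subgroup.centralizer ({τ} : Set ↥(centImage Ω t))) =>
        (⟨(m : ↥(centImage Ω t)) • ⟨x, hx⟩, Two.smul_fix_of_commute
          (Subgroup.mem_centralizer_singleton_iff.1 m.2.2) ha⟩ : ↥(fixedBy ↥(fixedBy Ω t) τ))) ?_
    intro a b k
    have k' : (a : ↥(centImage Ω t)) • (⟨x, hx⟩ : ↥(fixedBy Ω t)) = (b : ↥(centImage Ω t)) • ⟨x, hx⟩ :=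
      congrArg Subtype.val k
    refine Subtype.ext (inv_mul_eq_one.1 (hfree _ (mul_mem (inv_mem a.2.1) b.2.1) ⟨x, hx⟩ ?_))
    rw [mul_smul, ← k', inv_smul_smul]
  have hle : e * e ≤ 2 * e := by
    rw [← sq]
    exact hsquare ▸ hDc.trans hbound
  have he' : e = 2 := le_antisymm (Nat.le_of_mul_le_mul_right hle (by omega)) he2
  rw [he'] at hsquare
  have hn20 := (h.eqs_B hA hn ht).1
  rw [show fixCard Ω t = 4 by rw [← hf, hsquare]; norm_num] at hn20
  exact h.not_deg_twenty hA ht (by rw [← hf, hsquare]; norm_num) (by omega)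

end Hyp

end Cfsg.Agent.H6.AFour
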