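import Cfsg.Agent.H6.AFour.BThin.Basic

/-!
# Case B, thin, square fixed point number, odd: impossible
-/

set_option autoImplicit false
set_option linter.unusedSectionVars false

namespace Cfsg.Agent.H6.AFour

open MulAction

variable {G Ω : Type*} [Group G] [MulAction G Ω]

namespace Hyp

variable (h : Hyp G Ω) [Finite G] [Finite Ω]
include h

/-- The two orbits of the centraliser on moved points. -/
theorem moved_orbits (hA : AllT G Ω) (hn : ¬ NoMid G Ω) {t : G} (ht : IsT Ω t) :
    ∃ O₁ O₂ : Set Ω, (O₁ ∪ O₂ = (fixedBy Ω t)ᶜ) ∧ Disjoint O₁ O₂ ∧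
      3 * O₁.ncard = fixCard Ω t * (fixCard Ω t - 1) ∧
      (∀ a ∈ O₁, ∀ b ∈ O₁, ∃ g ∈ Subgroup.centralizer ({t} : Set G), g • a = b) ∧
      (∀ a ∈ O₂, ∀ b ∈ O₂, ∃ g ∈ Subgroup.centralizer ({t} : Set G), g • a = b) := by
  classical
  set C := Subgroup.centralizer ({t} : Set G)
  have hmoved : ∀ {z : Ω}, t • z ≠ z → z ≠ t • z := fun hz => Ne.symm hz
  have hsw : ∀ {z : Ω}, t ∈ swaps G z (t • z) := ⟨ht.1, rfl⟩
  have hgt : ∀ {z z' : Ω} (g : G), g • z = z' → g • t • z = t • z' →
      g * t * g⁻¹ ∈ swaps G z' (t • z') := fun {z z'} g gz gtz => by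
    have := swaps_conj (c := g) (hsw (z := z))
    rwa [gz, gtz] at this
  set O₁ := {z : Ω | t • z ≠ z ∧ IsMid z (t • z) t} with hO₁
  set O₂ := {z : Ω | t • z ≠ z ∧ ¬ IsMid z (t • z) t}
  have htr1 : ∀ a ∈ O₁, ∀ b ∈ O₁, ∃ g ∈ C, g • a = b := fun a ha b hb =>
    h.exists_cent_map ha.1 hb.1 fun g ga gta => ⟨1, one_mem _, by
      have hm := ha.2.conj (c := g)
      rw [ga, gta] at hm
      rw [one_mul, inv_one, mul_one]
      exact h.mid_unique (hmoved hb.1) hm hb.2⟩
  refine ⟨O₁, O₂, ?_, ?_, ?_, htr1, fun a ha b hb => h.exists_cent_map ha.1 hb.1 fun g ga gta => ?_⟩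
  · ext z
    simp only [O₁, O₂, Set.mem_union, Set.mem_setOf_eq, Set.mem_compl_iff, mem_fixedBy]
    tauto
  · exact Set.disjoint_left.2 fun z h1 h2 => h2.2 h1.2
  · -- the central case occurs
    obtain ⟨a, ha⟩ : O₁.Nonempty := by
      obtain ⟨x, y, hxy⟩ := h.nontriv
      obtain ⟨J, hJ⟩ := h.exists_mid hn hxy
      by_contra k
      obtain ⟨c, hc⟩ := h.isT_conj (hA J hJ.1.1) ht
      exact k ⟨c • x, by
        have hm := hJ.conj (c := c)
        rw [hc] at hm
        show t • c • x ≠ c • x ∧ IsMid (c • x) (t • c • x) t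
        rw [show t • c • x = c • y from hm.1.2]
        exact ⟨fun e => hxy (MulAction.injective c e.symm), hm⟩⟩
    have h1 := card_eq_orbit_mul C a O₁ fun z => ⟨fun hz => htr1 a ha z hz, ?_⟩
    · rw [h.card_centralizer ht, show C ⊓ stabilizer G a = tw G a (t • a) from ?_,
        h.card_two (hmoved ha.1)] at h1
      · omega
      ext g
      refine ⟨fun hg => mem_tw.2 ⟨hg.2, ?_⟩, fun hg => ⟨?_, (mem_tw.1 hg).1⟩⟩
      · rw [← mul_smul, Subgroup.mem_centralizer_singleton_iff.1 hg.1, mul_smul,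
          show g • a = a from hg.2]
      · exact Subgroup.mem_centralizer_singleton_iff.2 (ha.2.2 g hg).symm
    · rintro ⟨g, hg, rfl⟩
      have hc := Subgroup.mem_centralizer_singleton_iff.1 hg
      have e : t • g • a = g • t • a := by rw [← mul_smul, ← hc, mul_smul]
      refine ⟨fun k => ha.1 (MulAction.injective g (e.symm.trans k)), ?_⟩
      have hm := ha.2.conj (c := g)
      rwa [← e, show g * t * g⁻¹ = t by rw [hc, mul_inv_cancel_right]] at hm
  · obtain ⟨J, hJ⟩ := h.exists_mid hn (hmoved hb.1)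
    refine h.mid_others_conj (hmoved hb.1) hJ (hgt g ga gta) hsw (fun k => ?_) fun k => hb.2 (k ▸ hJ)
    have hm := hJ.conj (c := g⁻¹)
    rw [← k, inv_inv, show g⁻¹ * (g * t * g⁻¹) * g = t by group, inv_smul_eq_iff.2 ga.symm,
      inv_smul_eq_iff.2 gta.symm] at hm
    exact ha.2 hm

/-- No odd square fixed point number. -/
theorem caseB_square_odd_false (hA : AllT G Ω) (hn : ¬ NoMid G Ω) (hth : ¬ Flat G Ω) {t : G}
    (ht : IsT Ω t) {r : ℕ} (he : fixCard Ω t = r ^ 2) (hodd : Odd (fixCard Ω t))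
    (hex : ∃ q, Two.IsSwap (Δ := ↥(fixedBy Ω t)) (q : ↥(centImage Ω t))) : False := by
  classical
  obtain ⟨p, P, hP⟩ := h.exists_pblock hth ht hodd hex
  obtain ⟨U, hFU, hUC, hNc⟩ := h.block_orbit hth ht hP
  obtain ⟨O₁, O₂, hun, hdis, hO₁, htr1, htr2⟩ := h.moved_orbits hA hn ht
  obtain ⟨h3n, h3I⟩ := h.eqs_B hA hn ht
  have hf2 : 2 ≤ fixCard Ω t := two_le_fixCard h ht
  have hfn : fixCard Ω t ≤ Nat.card Ω := Finite.card_subtype_le _
  have hFc : (fixedBy Ω t).ncard = fixCard Ω t := (Nat.card_coe_set_eq _).symm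
  set N := Subgroup.normalizer (P : Set G) with hN
  have hCc := h.card_centralizer ht
  set f := fixCard Ω t with hfdef
  set C := Subgroup.centralizer ({t} : Set G)
  -- an orbit is in `U` or outside
  have hcl : ∀ O : Set Ω, (∀ a ∈ O, ∀ b ∈ O, ∃ g ∈ C, g • a = b) → O ⊆ U ∨ Disjoint O U := by
    intro O hO
    by_cases k : ∃ a ∈ O, a ∈ U
    · obtain ⟨a, ha, haU⟩ := k
      refine Or.inl fun b hb => ?_
      obtain ⟨g, hg, rfl⟩ := hO a ha b hb
      exact hUC g hg a haU
    · push Not at k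
      exact Or.inr (Set.disjoint_left.2 k)
  have hd1 : Disjoint (fixedBy Ω t) O₁ := Set.disjoint_left.2 fun z hz hz' =>
    (hun ▸ Set.mem_union_left O₂ hz' : z ∈ (fixedBy Ω t)ᶜ) hz
  have hd2 : Disjoint (fixedBy Ω t) O₂ := Set.disjoint_left.2 fun z hz hz' =>
    (hun ▸ Set.mem_union_right O₁ hz' : z ∈ (fixedBy Ω t)ᶜ) hz
  have hcover : ∀ z, z ∈ fixedBy Ω t ∨ z ∈ O₁ ∨ z ∈ O₂ := by
    intro z
    by_cases k : z ∈ fixedBy Ω t
    · exact Or.inl k
    · exact Or.inr ((hun ▸ k : z ∈ O₁ ∪ O₂))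
  have hO₂ : O₁.ncard + O₂.ncard + f = Nat.card Ω := by
    rw [← Set.ncard_union_eq hdis, hun, ← hFc, add_comm, Set.ncard_add_ncard_compl]
  obtain ⟨u, hu⟩ := Nat.exists_eq_add_of_le hf2
  have hUcases : 3 * U.ncard = 3 * f ∨ 3 * U.ncard = f * (f + 2) ∨ 3 * U.ncard = 3 * (f * f) ∨
      3 * U.ncard = f * (4 * f - 1) := by
    have hf1 : f * (f - 1) + f = f * f := by
      rw [Nat.mul_sub_one, Nat.sub_add_cancel (Nat.le_mul_self f)]
    have hf4 : f * (4 * f - 1) + f = 4 * (f * f) := by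
      rw [Nat.mul_sub_one, Nat.sub_add_cancel (Nat.le_mul_of_pos_right f (by omega))]
      ring
    have hf5 : f * (f + 2) = f * f + 2 * f := by ring
    rcases hcl O₁ htr1 with k1 | k1 <;> rcases hcl O₂ htr2 with k2 | k2
    · right; right; right
      rw [show U = Set.univ from Set.eq_univ_of_forall fun z => by
        rcases hcover z with k | k | k
        · exact hFU k
        · exact k1 k
        · exact k2 k, Set.ncard_univ]
      exact h3n
    · right; left
      rw [show U = fixedBy Ω t ∪ O₁ from Set.Subset.antisymm (fun z hz => by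
        rcases hcover z with k | k | k
        · exact Or.inl k
        · exact Or.inr k
        · exact absurd hz (Set.disjoint_left.1 k2 k)) (Set.union_subset hFU k1),
        Set.ncard_union_eq hd1, hFc]
      omega
    · right; right; left
      rw [show U = fixedBy Ω t ∪ O₂ from Set.Subset.antisymm (fun z hz => by
        rcases hcover z with k | k | k
        · exact Or.inl k
        · exact absurd hz (Set.disjoint_left.1 k1 k)
        · exact Or.inr k) (Set.union_subset hFU k2),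
        Set.ncard_union_eq hd2, hFc]
      omega
    · left
      rw [show U = fixedBy Ω t from Set.Subset.antisymm (fun z hz => by
        rcases hcover z with k | k | k
        · exact k
        · exact absurd hz (Set.disjoint_left.1 k1 k)
        · exact absurd hz (Set.disjoint_left.1 k2 k)) hFU, hFc]
  have hidx : N.index * (3 * U.ncard) = f * ((4 * f - 1) * (4 * f + 3)) := by
    rw [← h3I]
    refine Nat.eq_of_mul_eq_mul_left (show 0 < Nat.card C from Nat.card_pos) ?_
    calc Nat.card C * (N.index * (3 * U.ncard)) = (U.ncard * Nat.card C) * N.index * 3 := by ring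
      _ = Nat.card N * N.index * f * 3 := by rw [← hNc]; ring
      _ = Nat.card C * C.index * f * 3 := by rw [N.card_mul_index, C.card_mul_index]
      _ = _ := by ring
  have : Fact p.Prime := ⟨hP.prime⟩
  obtain ⟨k, hk⟩ := hP.pgroup.exists_card_eq
  have hpf : f = p ^ k := hP.card.symm.trans hk
  have hk0 : k ≠ 0 := fun e => by rw [hpf, e, pow_zero] at hf2; omega
  have hpdvd : p ∣ f := hpf ▸ dvd_pow_self p hk0
  have hpp : p ^ 2 ∣ f := by
    rw [he] at hpdvd ⊢
    exact pow_dvd_pow_of_dvd (hP.prime.dvd_of_dvd_pow hpdvd) 2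
  have hp2 : p ≠ 2 := fun e => by
    have := hP.odd
    rw [e] at this
    exact absurd this (by decide)
  have hp4 : ¬ p ∣ 4 := fun k => hp2 ((Nat.prime_dvd_prime_iff_eq hP.prime Nat.prime_two).1
    (hP.prime.dvd_of_dvd_pow (show p ∣ 2 ^ 2 from k)))
  have hp1 : ∀ m, ¬ (p ∣ m ∧ p ∣ m + 1) := fun m k => hP.prime.one_lt.ne' (Nat.dvd_one.1
    ((Nat.dvd_add_right k.1).1 k.2))
  -- `P` is a Sylow subgroup
  have hI : ¬ p ∣ C.index := by
    intro k
    have k3 : p ∣ (4 * f - 1) * (4 * f + 3) := h3I ▸ dvd_mul_of_dvd_right k 3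
    have hq : ¬ p ∣ 4 * f - 1 := fun k => hp1 _ ⟨k, by
      rw [show 4 * f - 1 + 1 = 4 * f by omega]; exact dvd_mul_of_dvd_right hpdvd 4⟩
    have k4 : p ∣ 4 * f + 3 := (hP.prime.dvd_mul.1 k3).resolve_left hq
    have hp3 : p = 3 := (Nat.prime_dvd_prime_iff_eq hP.prime Nat.prime_three).1
      ((Nat.dvd_add_right (dvd_mul_of_dvd_right hpdvd 4)).1 k4)
    subst hp3
    have h9 : 3 ^ 2 ∣ (4 * f - 1) * (4 * f + 3) := h3I ▸ mul_dvd_mul_left 3 k
    have h9' := (Nat.Coprime.pow_left 2 ((Nat.Prime.coprime_iff_not_dvd Nat.prime_three).2 hq)).dvd_of_dvd_mul_left h9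
    have := (Nat.dvd_add_right (dvd_mul_of_dvd_right hpp 4)).1 h9'
    norm_num at this
  have hPi : ¬ p ∣ P.index := by
    intro k
    have e : P.index = 4 * (f - 1) * C.index := by
      refine Nat.eq_of_mul_eq_mul_left (show 0 < f by omega) ?_
      calc f * P.index = Nat.card P * P.index := by rw [hP.card]
        _ = Nat.card C * C.index := by rw [P.card_mul_index, C.card_mul_index]
        _ = _ := by rw [hCc]; ring
    rw [e] at k
    rcases hP.prime.dvd_mul.1 k with k | k
    · rcases hP.prime.dvd_mul.1 k with k | k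
      · exact hp4 k
      · exact hp1 _ ⟨k, by rw [show f - 1 + 1 = f by omega]; exact hpdvd⟩
    · exact hI k
  let T : Sylow p G := hP.pgroup.toSylow hPi
  have hmod : N.index ≡ 1 [MOD p] := by
    have := card_sylow_modEq_one p G
    rwa [T.card_eq_index_normalizer] at this
  have h12 : p ∣ N.index + 1 → False := fun k => by
    have h2 : (1 + 1 : ℕ) ≡ 0 [MOD p] := (hmod.add_right 1).symm.trans (Nat.modEq_zero_iff_dvd.2 k)
    exact hp2 ((Nat.prime_dvd_prime_iff_eq hP.prime Nat.prime_two).1 (Nat.modEq_zero_iff_dvd.1 h2))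
  rcases hUcases with hU | hU | hU | hU <;> rw [hU] at hidx
  · -- `U` is the fixed point set
    have e : 3 * N.index = (4 * f - 1) * (4 * f + 3) :=
      Nat.eq_of_mul_eq_mul_left (show 0 < f by omega) (by rw [← hidx]; ring)
    have e' : 3 * (N.index + 1) = f * (16 * f + 8) := by
      rw [mul_add, e, hu, show 4 * (2 + u) - 1 = 7 + 4 * u by omega]
      ring
    have k : p * p ∣ 3 * (N.index + 1) := e' ▸ dvd_mul_of_dvd_left (by rwa [← sq]) _
    by_cases hp3 : p = 3
    · subst hp3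
      exact h12 (Nat.dvd_of_mul_dvd_mul_left (by norm_num) k)
    · exact h12 (((Nat.coprime_primes hP.prime Nat.prime_three).2 hp3).dvd_of_dvd_mul_left
        ((dvd_mul_right p p).trans k))
  · have e : N.index * (f + 2) = (4 * f - 1) * (4 * f + 3) :=
      Nat.eq_of_mul_eq_mul_left (show 0 < f by omega) (by rw [← hidx]; ring)
    have e45 : (f + 2) ∣ 45 := by
      obtain ⟨w, hw⟩ : ∃ w, (4 * f - 1) * (4 * f + 3) + (f + 2) * 24 = 45 + (f + 2) * w := by
        refine ⟨16 * f, ?_⟩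
        rw [hu, show 4 * (2 + u) - 1 = 7 + 4 * u by omega]
        ring
      have h0 : f + 2 ∣ 45 + (f + 2) * w := hw ▸ dvd_add (e ▸ dvd_mul_left _ _) (dvd_mul_right _ _)
      exact (Nat.dvd_add_left (dvd_mul_right _ w)).1 h0
    have hfs : f ∈ Finset.range 44 := by
      have := Nat.le_of_dvd (by norm_num) e45
      exact Finset.mem_range.2 (by omega)
    have hes : r < 8 := by
      by_contra k
      have := Nat.pow_le_pow_left (show 8 ≤ r by omega) 2
      rw [← he] at this
      rw [Finset.mem_range] at hfs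
      omega
    rw [he] at e45 hodd hf2
    have key : ∀ r < 8, r ^ 2 % 2 = 1 → 2 ≤ r ^ 2 → ¬ r ^ 2 + 2 ∣ 45 := by decide
    exact key r hes (Nat.odd_iff.1 hodd) hf2 e45
  · have e : N.index * 3 * f = (4 * f - 1) * (4 * f + 3) :=
      Nat.eq_of_mul_eq_mul_left (show 0 < f by omega) (by rw [← hidx]; ring)
    have k : f ∣ (4 * f - 1) * (4 * f + 3) + f * 24 := dvd_add (e ▸ dvd_mul_left _ _) (dvd_mul_right _ _)
    obtain ⟨w, hw⟩ : ∃ w, (4 * f - 1) * (4 * f + 3) + 3 = f * w := by
      refine ⟨16 * f + 8, ?_⟩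
      rw [hu, show 4 * (2 + u) - 1 = 7 + 4 * u by omega]
      ring
    have hd : f ∣ 3 := by
      have h1 : f ∣ (4 * f - 1) * (4 * f + 3) := e ▸ dvd_mul_left _ _
      exact (Nat.dvd_add_right h1).1 (hw ▸ dvd_mul_right _ _)
    have hle := Nat.le_of_dvd (by norm_num) hd
    have hple := Nat.le_of_dvd (by omega) hpp
    have := Nat.pow_le_pow_left (show 3 ≤ p by have := hP.prime.two_le; omega) 2
    omega
  · have e : N.index = 4 * f + 3 :=
      Nat.eq_of_mul_eq_mul_left (show 0 < f * (4 * f - 1) from Nat.mul_pos (by omega) (by omega))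
        (by rw [mul_comm (f * _), hidx]; ring)
    refine h12 ?_
    have h3 : N.index ≡ 3 [MOD p] := by
      rw [e]
      have : 4 * f ≡ 0 [MOD p] := Nat.modEq_zero_iff_dvd.2 (dvd_mul_of_dvd_right hpdvd 4)
      simpa using this.add_right 3
    have h2 : (1 : ℕ) ≡ 3 [MOD p] := hmod.symm.trans h3
    exact absurd ((Nat.prime_dvd_prime_iff_eq hP.prime Nat.prime_two).1
      ((Nat.modEq_iff_dvd' (by norm_num)).1 h2)) hp2

end Hyp

end Cfsg.Agent.H6.AFour
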