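import Cfsg.Agent.H6.AFour.PBlock

/-!
# Case B, thin: parameters, liftings and preimages
-/

set_option autoImplicit false
set_option linter.unusedSectionVars false
set_option linter.style.haveILetI false

namespace Cfsg.Agent.H6.AFour

open MulAction

variable {G Ω : Type*} [Group G] [MulAction G Ω]

variable (Ω) in
/-- The full preimage of a subgroup of the induced group. -/
def pre (t : G) (M : Subgroup ↥(centImage Ω t)) : Subgroup G :=
  (M.comap (toImage Ω t)).map (Subgroup.centralizer ({t} : Set G)).subtype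

theorem mem_pre {t : G} {M : Subgroup ↥(centImage Ω t)} {g : G} :
    g ∈ pre Ω t M ↔ ∃ hg : g ∈ Subgroup.centralizer ({t} : Set G), toImage Ω t ⟨g, hg⟩ ∈ M := by
  constructor
  · rintro ⟨⟨g, hg⟩, hm, rfl⟩
    exact ⟨hg, hm⟩
  · rintro ⟨hg, hm⟩
    exact ⟨⟨g, hg⟩, hm, rfl⟩

theorem pre_le (t : G) (M : Subgroup ↥(centImage Ω t)) :
    pre Ω t M ≤ Subgroup.centralizer ({t} : Set G) :=
  Subgroup.map_subtype_le _

theorem self_mem_centralizer (t : G) : t ∈ Subgroup.centralizer ({t} : Set G) :=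
  Subgroup.mem_centralizer_singleton_iff.2 rfl

theorem mul_comm_of_sq {E : Subgroup G} (hE : ∀ a ∈ E, a * a = 1) {a b : G} (ha : a ∈ E)
    (hb : b ∈ E) : a * b = b * a := by
  rw [← inv_eq_of_mul_eq_one_right (hE _ (mul_mem ha hb)), mul_inv_rev,
    inv_eq_of_mul_eq_one_right (hE a ha), inv_eq_of_mul_eq_one_right (hE b hb)]

theorem toImage_surjective (t : G) : Function.Surjective (toImage Ω t) :=
  (centPerm (Ω := Ω) t).rangeRestrict_surjective

theorem mem_normalizer_pre {t g : G} (M : Subgroup ↥(centImage Ω t))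
    (hg : g ∈ Subgroup.centralizer ({t} : Set G)) :
    g ∈ Subgroup.normalizer (pre Ω t M : Set G) ↔
      toImage Ω t ⟨g, hg⟩ ∈ Subgroup.normalizer (M : Set ↥(centImage Ω t)) := by
  have hiff : ∀ a : ↥(Subgroup.centralizer ({t} : Set G)),
      (a : G) ∈ pre Ω t M ↔ toImage Ω t a ∈ M := fun a =>
    ⟨fun k => (mem_pre.1 k).2, fun k => mem_pre.2 ⟨a.2, k⟩⟩
  set γ : ↥(Subgroup.centralizer ({t} : Set G)) := ⟨g, hg⟩
  constructor
  · intro k
    refine Subgroup.mem_normalizer_iff.2 fun q => ?_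
    obtain ⟨a, rfl⟩ := toImage_surjective t q
    rw [← map_inv, ← map_mul, ← map_mul, ← hiff, ← hiff]
    exact Subgroup.mem_normalizer_iff.1 k a
  · intro k
    refine Subgroup.mem_normalizer_iff.2 fun u => ⟨fun hu => ?_, fun hu => ?_⟩
    · obtain ⟨a, rfl⟩ : ∃ a : ↥(Subgroup.centralizer ({t} : Set G)), (a : G) = u :=
        ⟨⟨u, pre_le t M hu⟩, rfl⟩
      refine (hiff (γ * a * γ⁻¹)).2 ?_
      rw [map_mul, map_mul, map_inv]
      exact (Subgroup.mem_normalizer_iff.1 k _).1 ((hiff a).1 hu)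
    · have huC : u ∈ Subgroup.centralizer ({t} : Set G) := by
        have := mul_mem (mul_mem (inv_mem hg) (pre_le t M hu)) hg
        rwa [show g⁻¹ * (g * u * g⁻¹) * g = u by group] at this
      have := (hiff (γ * ⟨u, huC⟩ * γ⁻¹)).1 hu
      rw [map_mul, map_mul, map_inv] at this
      exact (hiff ⟨u, huC⟩).2 ((Subgroup.mem_normalizer_iff.1 k _).2 this)

/-- The orbit-stabiliser equation for conjugation. -/
theorem card_eq_conj_mul [Finite G] (K : Subgroup G) (u : G) (S : Set G)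
    (hS : ∀ w, w ∈ S ↔ ∃ c ∈ K, c * u * c⁻¹ = w) :
    Nat.card K = S.ncard * Nat.card ↥(K ⊓ Subgroup.centralizer ({u} : Set G)) := by
  let φ : G ≃* ConjAct G := ConjAct.toConjAct
  have hK : ∀ c : G, φ c ∈ K.map φ.toMonoidHom ↔ c ∈ K := fun c =>
    ⟨fun ⟨a, ha, e⟩ => (φ.injective e) ▸ ha, fun hc => ⟨c, hc, rfl⟩⟩
  have : Finite (ConjAct G) := Finite.of_equiv G φ.toEquiv
  have h1 := card_eq_orbit_mul (K.map φ.toMonoidHom) u S fun w => by
    rw [hS]
    constructor
    · rintro ⟨c, hc, e⟩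
      exact ⟨φ c, (hK c).2 hc, e⟩
    · rintro ⟨q, ⟨c, hc, rfl⟩, e⟩
      exact ⟨c, hc, e⟩
  rw [Subgroup.card_map_of_injective φ.injective] at h1
  rw [h1]
  congr 1
  refine Nat.card_congr
    { toFun := fun q => ⟨φ.symm q.1, ?_, ?_⟩
      invFun := fun c => ⟨φ c.1, (hK c.1).2 c.2.1, ?_⟩
      left_inv := fun q => Subtype.ext (φ.apply_symm_apply _)
      right_inv := fun c => Subtype.ext (φ.symm_apply_apply _) }
  · obtain ⟨c, hc, e⟩ := q.2.1
    rw [← e]
    simpa using hc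
  · exact Subgroup.mem_centralizer_singleton_iff.2 (mul_inv_eq_iff_eq_mul.1 q.2.2)
  · show (c : G) * u * (c : G)⁻¹ = u
    rw [Subgroup.mem_centralizer_singleton_iff.1 c.2.2, mul_inv_cancel_right]

namespace Hyp

variable (h : Hyp G Ω) [Finite G] [Finite Ω]
include h

theorem card_pre (hth : ¬ Flat G Ω) {t : G} (ht : IsT Ω t) (M : Subgroup ↥(centImage Ω t)) :
    Nat.card ↥(pre Ω t M) = 2 * Nat.card ↥M := by
  have hker : Nat.card (toImage Ω t).ker = 2 := by
    rw [Nat.card_eq_two_iff' (1 : (toImage Ω t).ker)]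
    refine ⟨⟨⟨t, self_mem_centralizer t⟩, (h.toImage_eq_one hth ht _).2 (Or.inr rfl)⟩,
      fun e => ht.1.1 (congrArg (fun z : (toImage Ω t).ker =>
        ((z : ↥(Subgroup.centralizer ({t} : Set G))) : G)) e),
      fun z hz => ?_⟩
    rcases (h.toImage_eq_one hth ht _).1 z.2 with e | e
    · exact absurd (Subtype.ext (Subtype.ext e)) hz
    · exact Subtype.ext (Subtype.ext e)
  rw [pre, Subgroup.card_map_of_injective (Subgroup.subtype_injective _)]
  have e1 := (M.comap (toImage Ω t)).card_mul_index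
  rw [Subgroup.index_comap_of_surjective _ (toImage_surjective t)] at e1
  have e2 := (toImage Ω t).ker.card_mul_index
  rw [Subgroup.index_ker, MonoidHom.range_eq_top.2 (toImage_surjective t), Subgroup.card_top, hker,
    ← M.card_mul_index, ← e1] at e2
  exact Nat.eq_of_mul_eq_mul_right (Nat.pos_of_ne_zero M.index_ne_zero_of_finite)
    (by rw [mul_assoc, e2])

theorem self_mem_pre (hth : ¬ Flat G Ω) {t : G} (ht : IsT Ω t) (M : Subgroup ↥(centImage Ω t)) :
    t ∈ pre Ω t M :=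
  mem_pre.2 ⟨self_mem_centralizer t, by
    rw [(h.toImage_eq_one hth ht ⟨t, self_mem_centralizer t⟩).2 (Or.inr rfl)]; exact one_mem M⟩

/-- Preimages of involutions of the induced group are involutions. -/
theorem sq_of_lift (hn : ¬ NoMid G Ω) (hth : ¬ Flat G Ω) {t : G} (ht : IsT Ω t)
    {g : ↥(Subgroup.centralizer ({t} : Set G))}
    (hg : toImage Ω t g * toImage Ω t g = 1) : (g : G) * g = 1 := by
  classical
  by_cases g1 : toImage Ω t g = 1
  · rcases (h.toImage_eq_one hth ht g).1 g1 with e | e <;> rw [e]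
    · exact one_mul 1
    · exact ht.1.2
  obtain ⟨z, hz⟩ := (h.two_hyp hth ht).exists_moved g1
  set w := toImage Ω t g • z with hw
  have hwz : toImage Ω t g • w = z := by rw [hw, ← mul_smul, hg, one_smul]
  have gx : (g : G) • (z : Ω) = w := rfl
  have gy : (g : G) • (w : Ω) = z := congrArg Subtype.val hwz
  have hne : (z : Ω) ≠ w := fun e => hz (Subtype.ext e.symm)
  obtain ⟨J, hJ⟩ := h.exists_mid hn hne
  have htd : t ∈ tw G (z : Ω) w := mem_tw.2 ⟨z.2, w.2⟩
  have hd : J * (g : G) ∈ tw G (z : Ω) w :=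
    mem_tw.2 ⟨by rw [mul_smul, gx, swaps_back hJ.1], by rw [mul_smul, gy, hJ.1.2]⟩
  have hdC : J * (g : G) ∈ Subgroup.centralizer ({t} : Set G) :=
    mul_mem (Subgroup.mem_centralizer_singleton_iff.2 (hJ.2 t htd)) g.2
  have hd2 := h.sq_of_cent ht.1 hne z.2 w.2 hdC (mem_tw.1 hd).1 (mem_tw.1 hd).2
  have e : (g : G) = J * (J * g) := by rw [← mul_assoc, hJ.1.1.2, one_mul]
  rw [e]
  have hc : Commute J (J * g) := hJ.2 _ hd
  rw [hc.symm.mul_mul_mul_comm, hJ.1.1.2, one_mul]
  exact hd2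

theorem eqs_B (hA : AllT G Ω) (hn : ¬ NoMid G Ω) {t : G} (ht : IsT Ω t) :
    3 * Nat.card Ω = fixCard Ω t * (4 * fixCard Ω t - 1) ∧
      3 * (Subgroup.centralizer ({t} : Set G)).index =
        (4 * fixCard Ω t - 1) * (4 * fixCard Ω t + 3) := by
  have heq := h.eq_B hA hn ht
  have hf2 : 2 ≤ fixCard Ω t := two_le_fixCard h ht
  have hfn : fixCard Ω t ≤ Nat.card Ω := Finite.card_subtype_le _
  have hG := h.card_group
  rw [← (Subgroup.centralizer ({t} : Set G)).card_mul_index, h.card_centralizer ht] at hG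
  obtain ⟨u, hu⟩ := Nat.exists_eq_add_of_le hf2
  rw [hu] at heq hfn hG ⊢
  rw [show 2 + u - 1 = 1 + u by omega] at heq hG
  rw [show 4 * (2 + u) - 1 = 7 + 4 * u by omega]
  have e1 : 3 * Nat.card Ω = (2 + u) * (7 + 4 * u) := by
    have e : (2 + u) * (7 + 4 * u) = 4 * ((2 + u) * (1 + u)) + 3 * (2 + u) := by ring
    omega
  have e2 : 3 * (Nat.card Ω - 1) = (1 + u) * (4 * (2 + u) + 3) := by
    have e : (2 + u) * (7 + 4 * u) = (1 + u) * (4 * (2 + u) + 3) + 3 := by ring
    omega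
  refine ⟨e1, Nat.eq_of_mul_eq_mul_left (show 0 < 4 * ((2 + u) * (1 + u)) by positivity) ?_⟩
  calc 4 * ((2 + u) * (1 + u)) * (3 * (Subgroup.centralizer ({t} : Set G)).index)
      = 4 * ((2 + u) * (1 + u)) * (Subgroup.centralizer ({t} : Set G)).index * 3 := by ring
    _ = 4 * ((3 * Nat.card Ω) * (3 * (Nat.card Ω - 1))) := by rw [hG]; ring
    _ = _ := by rw [e1, e2]; ring

/-- The index of the centraliser of an involution is odd. -/
theorem index_odd (hA : AllT G Ω) (hn : ¬ NoMid G Ω) {t : G} (ht : IsT Ω t) :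
    Odd (Subgroup.centralizer ({t} : Set G)).index := by
  have h3 := (h.eqs_B hA hn ht).2
  have hf2 : 2 ≤ fixCard Ω t := two_le_fixCard h ht
  refine (Nat.odd_mul.1 (?_ : Odd (3 * _))).2
  rw [h3]
  exact (Nat.odd_iff.2 (by omega)).mul (Nat.odd_iff.2 (by omega))

/-- The `2`-part of the group order for an even fixed point number. -/
theorem index_odd_of_two_part (hA : AllT G Ω) (hn : ¬ NoMid G Ω) {t : G} (ht : IsT Ω t)
    (hev : Even (fixCard Ω t)) {S : Subgroup G} {j : ℕ} (hS : Nat.card S = 2 ^ j)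
    (hle : 4 * fixCard Ω t ≤ Nat.card S) :
    Nat.card S = 4 * fixCard Ω t ∧ ¬ 2 ∣ S.index := by
  have hf2 : 2 ≤ fixCard Ω t := two_le_fixCard h ht
  have hodd : Odd ((fixCard Ω t - 1) * (Subgroup.centralizer ({t} : Set G)).index) := by
    rw [Nat.even_iff] at hev
    exact (Nat.odd_iff.2 (by omega)).mul (h.index_odd hA hn ht)
  have hG : Nat.card S * S.index =
      4 * fixCard Ω t * ((fixCard Ω t - 1) * (Subgroup.centralizer ({t} : Set G)).index) := by
    rw [S.card_mul_index, ← (Subgroup.centralizer ({t} : Set G)).card_mul_index, h.card_centralizer ht]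
    ring
  have hdd : Nat.card S ∣ 4 * fixCard Ω t := by
    refine Nat.Coprime.dvd_of_dvd_mul_right ?_ ⟨S.index, hG.symm⟩
    rw [hS]
    exact Nat.Coprime.pow_left _ (Nat.coprime_two_left.2 hodd)
  have heq : Nat.card S = 4 * fixCard Ω t := le_antisymm (Nat.le_of_dvd (by omega) hdd) hle
  refine ⟨heq, ?_⟩
  rw [heq] at hG
  rw [Nat.eq_of_mul_eq_mul_left (by omega) hG, ← even_iff_two_dvd]
  exact Nat.not_even_iff_odd.2 hodd

end Hyp

end Cfsg.Agent.H6.AFour
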