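import Mathlib

/-!
# Groups of order 315 have a normal subgroup of order seven
-/

set_option autoImplicit false

namespace Cfsg.Agent.H6.AFour

open scoped Pointwise

variable {A : Type*} [Group A] [Finite A]

omit [Finite A] in
/-- A Sylow subgroup of a finite subgroup is normal there when the congruence leaves one
possibility. -/
theorem sylow_eq_one_of_divisors {p m : ℕ} [Fact p.Prime] {H : Type*} [Group H] [Finite H]
    (hm : ∀ (P : Sylow p H), (P : Subgroup H).index ∣ m)
    (hkey : ∀ d, d ∣ m → d ≡ 1 [MOD p] → d = 1) (P : Sylow p H) : (P : Subgroup H).Normal := by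
  have h1 : Nat.card (Sylow p H) ∣ m := P.card_dvd_index.trans (hm P)
  have h2 := hkey _ h1 (card_sylow_modEq_one p H)
  have : Subsingleton (Sylow p H) := (Nat.card_eq_one_iff_unique.1 h2).1
  exact P.normal_of_subsingleton

theorem card_normalizer_of_sylow {p : ℕ} [Fact p.Prime] (P : Sylow p A) :
    Nat.card (Sylow p A) * Nat.card (Subgroup.normalizer ((P : Subgroup A) : Set A)) = Nat.card A := by
  rw [P.card_eq_index_normalizer, mul_comm]
  exact Subgroup.card_mul_index _

theorem card_sylow_of_eq {p k c : ℕ} [Fact p.Prime] (P : Sylow p A) (hA : Nat.card A = p ^ k * c)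
    (hc : ¬ p ∣ c) : Nat.card (P : Subgroup A) = p ^ k := by
  obtain ⟨j, hj⟩ := P.2.exists_card_eq
  have hp : p.Prime := Fact.out
  refine Nat.dvd_antisymm ?_ (P.pow_dvd_card_of_pow_dvd_card (hA ▸ dvd_mul_right _ _))
  rw [hj]
  refine (Nat.Coprime.pow_left j (hp.coprime_iff_not_dvd.2 hc)).dvd_of_dvd_mul_right ?_
  rw [← hj, ← hA]
  exact Subgroup.card_subgroup_dvd_card _

/-- A subgroup normalises its Sylow `p`-subgroup when the congruence leaves one possibility. -/
theorem le_normalizer_of_unique {p k c : ℕ} [Fact p.Prime] {H : Subgroup A} {P : Subgroup A}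
    (hPH : P ≤ H) (hP : Nat.card P = p ^ k) (hH : Nat.card H = p ^ k * c) (hpc : ¬ p ∣ c)
    (hkey : ∀ d, d ∣ c → d ≡ 1 [MOD p] → d = 1) : H ≤ Subgroup.normalizer (P : Set A) := by
  have hp : p.Prime := Fact.out
  have e := (P.subgroupOf H).card_mul_index
  rw [Nat.card_congr (Subgroup.subgroupOfEquivOfLe hPH).toEquiv, hP, hH] at e
  have hidx : (P.subgroupOf H).index = c := Nat.eq_of_mul_eq_mul_left (Nat.pow_pos hp.pos) e
  have hpg : IsPGroup p (P.subgroupOf H) := IsPGroup.of_card (n := k) (by
    rw [Nat.card_congr (Subgroup.subgroupOfEquivOfLe hPH).toEquiv, hP])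
  let Q : Sylow p H := hpg.toSylow (by rw [hidx]; exact hpc)
  have := sylow_eq_one_of_divisors (p := p) (m := c) (fun R => by
    have e' := (R : Subgroup H).card_mul_index
    rw [card_sylow_of_eq R hH hpc, hH] at e'
    rw [Nat.eq_of_mul_eq_mul_left (Nat.pow_pos hp.pos) e']) hkey Q
  exact (Subgroup.normal_subgroupOf_iff_le_normalizer hPH).1 this

/-- A group of order `315` has a normal Sylow `7`-subgroup. -/
theorem normal_seven_of_card (hA : Nat.card A = 315) (P : Sylow 7 A)
    [Fact (Nat.Prime 7)] : (P : Subgroup A).Normal := by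
  classical
  have : Fact (Nat.Prime 5) := ⟨by norm_num⟩
  have : Fact (Nat.Prime 3) := ⟨Nat.prime_three⟩
  by_contra hP
  have hPc : Nat.card (P : Subgroup A) = 7 := by
    rw [card_sylow_of_eq (k := 1) (c := 45) P (by rw [hA]; norm_num) (by norm_num), pow_one]
  have key : ∀ {p k c : ℕ} [Fact p.Prime] (R : Sylow p A), Nat.card A = p ^ k * c → ¬ p ∣ c →
      Nat.card (Sylow p A) ∣ c ∧ Nat.card (Sylow p A) ≡ 1 [MOD p] := by
    intro p k c hp R hc hpc
    refine ⟨?_, card_sylow_modEq_one p A⟩
    have e := (R : Subgroup A).card_mul_index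
    rw [card_sylow_of_eq R hc hpc, hc] at e
    rw [← Nat.eq_of_mul_eq_mul_left (Nat.pow_pos hp.out.pos) e]
    exact R.card_dvd_index
  -- fifteen Sylow 7-subgroups
  have hN : Nat.card (Subgroup.normalizer ((P : Subgroup A) : Set A)) = 21 := by
    obtain ⟨h7, m7⟩ := key (k := 1) (c := 45) P (by rw [hA]; norm_num) (by norm_num)
    have hne : Nat.card (Sylow 7 A) ≠ 1 := fun e => hP (by
      have : Subsingleton (Sylow 7 A) := (Nat.card_eq_one_iff_unique.1 e).1
      exact P.normal_of_subsingleton)
    have : Nat.card (Sylow 7 A) = 15 := by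
      have hd : Nat.card (Sylow 7 A) ∈ Nat.divisors 45 := Nat.mem_divisors.2 ⟨h7, by norm_num⟩
      generalize Nat.card (Sylow 7 A) = d at hd m7 hne
      have key : ∀ d ∈ Nat.divisors 45, d % 7 = 1 → d ≠ 1 → d = 15 := by decide +kernel
      exact key d hd (by rw [m7]) hne
    have e := card_normalizer_of_sylow P
    rw [this, hA] at e
    omega
  obtain ⟨F⟩ : Nonempty (Sylow 5 A) := inferInstance
  have hFc : Nat.card (F : Subgroup A) = 5 := by
    rw [card_sylow_of_eq (k := 1) (c := 63) F (by rw [hA]; norm_num) (by norm_num), pow_one]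
  -- a subgroup of the forms above lies in the normaliser of `P`
  have hsup : ∀ Q : Subgroup A, Q.Normal → ∀ c, Nat.card Q = c → ¬ 7 ∣ c →
      (∀ d, d ∣ c → d ≡ 1 [MOD 7] → d = 1) → c ∣ 21 := by
    intro Q hQ c hc h7 hkey
    have hsupc : Nat.card ↥((P : Subgroup A) ⊔ Q) = 7 ^ 1 * c := by
      have hdis : Disjoint (P : Subgroup A) Q := by
        rw [disjoint_iff, ← Subgroup.card_eq_one]
        have h1 := Subgroup.card_dvd_of_le (inf_le_left : (P : Subgroup A) ⊓ Q ≤ P)
        have h2 := Subgroup.card_dvd_of_le (inf_le_right : (P : Subgroup A) ⊓ Q ≤ Q)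
        rw [hPc] at h1
        rw [hc] at h2
        rcases (Nat.dvd_prime (by norm_num)).1 h1 with e | e
        · exact e
        · exact absurd (e ▸ h2) h7
      have hset : (((P : Subgroup A) ⊔ Q : Subgroup A) : Set A) =
          ((P : Subgroup A) : Set A) * (Q : Set A) := (P : Subgroup A).mul_normal Q
      have hinj : Function.Injective
          (fun z : ↥(P : Subgroup A) × ↥Q => (z.1 : A) * z.2) := Subgroup.mul_injective_of_disjoint hdis
      refine Eq.trans ?_ ((congrArg₂ (· * ·) hPc hc).trans (by rw [pow_one]))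
      show _ = Nat.card ↥(P : Subgroup A) * Nat.card ↥Q
      rw [← Nat.card_prod]
      refine Nat.card_congr ((Equiv.setCongr ?_).trans (Equiv.ofInjective _ hinj).symm)
      rw [hset]
      ext z
      simp [Set.mem_mul, eq_comm]
      rfl
    have hle := le_normalizer_of_unique (k := 1) (le_sup_left : (P : Subgroup A) ≤ (P : Subgroup A) ⊔ Q)
      (by rw [hPc, pow_one]) hsupc h7 hkey
    have := Subgroup.card_dvd_of_le ((le_sup_right (a := (P : Subgroup A))).trans hle)
    rwa [hN, hc] at this
  have hNF : Nat.card (Subgroup.normalizer ((F : Subgroup A) : Set A)) = 15 := by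
    obtain ⟨h5, m5⟩ := key (k := 1) (c := 63) F (by rw [hA]; norm_num) (by norm_num)
    have hd : Nat.card (Sylow 5 A) ∈ Nat.divisors 63 := Nat.mem_divisors.2 ⟨h5, by norm_num⟩
    have key5 : ∀ d ∈ Nat.divisors 63, d % 5 = 1 → d = 1 ∨ d = 21 := by decide +kernel
    rcases key5 _ hd (by rw [m5]) with e | e
    · have : Subsingleton (Sylow 5 A) := (Nat.card_eq_one_iff_unique.1 e).1
      have := hsup _ F.normal_of_subsingleton 5 hFc (by norm_num) (by
        intro d hd hm
        rcases (Nat.dvd_prime (by norm_num)).1 hd with rfl | rfl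
        · rfl
        · exact absurd hm (by decide))
      norm_num at this
    · have e' := card_normalizer_of_sylow F
      rw [e, hA] at e'
      omega
  obtain ⟨T⟩ : Nonempty (Sylow 3 A) := inferInstance
  have hTc : Nat.card (T : Subgroup A) = 9 := by
    rw [card_sylow_of_eq (k := 2) (c := 35) T (by rw [hA]; norm_num) (by norm_num)]; norm_num
  obtain ⟨h3, m3⟩ := key (k := 2) (c := 35) T (by rw [hA]; norm_num) (by norm_num)
  have hd : Nat.card (Sylow 3 A) ∈ Nat.divisors 35 := Nat.mem_divisors.2 ⟨h3, by norm_num⟩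
  have key3 : ∀ d ∈ Nat.divisors 35, d % 3 = 1 → d = 1 ∨ d = 7 := by decide +kernel
  rcases key3 _ hd (by rw [m3]) with e | e
  · have : Subsingleton (Sylow 3 A) := (Nat.card_eq_one_iff_unique.1 e).1
    have := hsup _ T.normal_of_subsingleton 9 hTc (by norm_num) (by
      intro d hd hm
      have key : ∀ d ∈ Nat.divisors 9, d % 7 = 1 → d = 1 := by decide +kernel
      exact key d (Nat.mem_divisors.2 ⟨hd, by norm_num⟩) (by rw [hm]))
    norm_num at this
  · -- a subgroup of order 45 has a normal subgroup of order 5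
    set M := Subgroup.normalizer ((T : Subgroup A) : Set A)
    have hM : Nat.card M = 45 := by
      have e' := card_normalizer_of_sylow T
      rw [e, hA] at e'
      change _ * Nat.card M = _ at e'
      omega
    obtain ⟨R₀⟩ : Nonempty (Sylow 5 M) := inferInstance
    set R := (R₀ : Subgroup M).map M.subtype
    have hR : Nat.card R = 5 ^ 1 := by
      rw [Subgroup.card_map_of_injective M.subtype_injective,
        card_sylow_of_eq (k := 1) (c := 9) R₀ (by rw [hM]; norm_num) (by norm_num)]
    have hle := le_normalizer_of_unique (c := 9) (Subgroup.map_subtype_le (R₀ : Subgroup M)) hR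
      (by rw [hM]; norm_num) (by norm_num) (by
        intro d hd hm
        have key : ∀ d ∈ Nat.divisors 9, d % 5 = 1 → d = 1 := by decide +kernel
        exact key d (Nat.mem_divisors.2 ⟨hd, by norm_num⟩) (by rw [hm]))
    -- `R` is a Sylow subgroup of the whole group
    have hRi : ¬ 5 ∣ R.index := by
      have e' := R.card_mul_index
      rw [hR, hA] at e'
      omega
    let R' : Sylow 5 A := (IsPGroup.of_card hR).toSylow hRi
    have hR' : Nat.card (Subgroup.normalizer (R : Set A)) = 15 := by
      have e1 := card_normalizer_of_sylow R'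
      have e2 := card_normalizer_of_sylow F
      rw [hNF] at e2
      have hpos : 0 < Nat.card (Sylow 5 A) := Nat.card_pos
      exact Nat.eq_of_mul_eq_mul_left hpos (e1.trans e2.symm)
    have := Subgroup.card_dvd_of_le (Subgroup.le_normalizer.trans hle : (T : Subgroup A) ≤ _)
    rw [hR', hTc] at this
    norm_num at this

end Cfsg.Agent.H6.AFour
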