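import Cfsg.Agent.H6.AFour.BThin.Basic
import Cfsg.Agent.H6.AFour.BThin.Group315

/-!
# Case B, thin, one class in the induced group: impossible
-/

set_option autoImplicit false
set_option linter.unusedSectionVars false

namespace Cfsg.Agent.H6.AFour

open MulAction

variable {G Ω : Type*} [Group G] [MulAction G Ω]

/-- A group of automorphisms transitive on the non-identity elements of a group of order sixteen does
not have order 315. -/
theorem card_ne_of_transitive {V : Type*} [Group V] [Finite V] (hV : Nat.card V = 16)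
    (A : Subgroup (MulAut V)) (htr : ∀ u w : V, u ≠ 1 → w ≠ 1 → ∃ a ∈ A, a u = w) :
    Nat.card A ≠ 315 := by
  classical
  intro hA
  have : Fact (Nat.Prime 7) := ⟨by norm_num⟩
  obtain ⟨P⟩ : Nonempty (Sylow 7 A) := inferInstance
  have hPn := normal_seven_of_card hA P
  have hPc : Nat.card (P : Subgroup A) = 7 := by
    rw [card_sylow_of_eq (k := 1) (c := 45) P (by rw [hA]; norm_num) (by norm_num), pow_one]
  -- a non-trivial fixed element
  have hm := P.2.card_modEq_card_fixedPoints V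
  rw [hV, Nat.ModEq] at hm
  obtain ⟨u, hu, u1⟩ : ∃ u ∈ fixedPoints (P : Subgroup A) V, u ≠ 1 := by
    by_contra k
    push Not at k
    have hle : (fixedPoints (P : Subgroup A) V).ncard ≤ 1 :=
      (Set.ncard_le_ncard (show fixedPoints (P : Subgroup A) V ⊆ {1} from fun u hu => k u hu)
        (Set.toFinite _)).trans (Set.ncard_singleton _).le
    rw [Nat.card_coe_set_eq] at hm
    omega
  -- all elements are fixed
  have hall : ∀ p ∈ (P : Subgroup A), ∀ w : V, (p : MulAut V) w = w := by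
    intro p hp w
    by_cases w1 : w = 1
    · rw [w1, map_one]
    obtain ⟨a, ha, rfl⟩ := htr u w u1 w1
    have hc : (⟨a, ha⟩ : A)⁻¹ * p * ⟨a, ha⟩ ∈ (P : Subgroup A) := by
      have := hPn.conj_mem p hp (⟨a, ha⟩ : A)⁻¹
      rwa [inv_inv] at this
    have e : (a⁻¹ * (p : MulAut V) * a) u = u := hu ⟨_, hc⟩
    have := congrArg a e
    simpa [MulAut.mul_apply] using this
  have : (P : Subgroup A) = ⊥ := (Subgroup.eq_bot_iff_forall _).2 fun p hp =>
    Subtype.ext (MulEquiv.ext fun w => hall p hp w)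
  rw [this, Subgroup.card_bot] at hPc
  norm_num at hPc

namespace Hyp

variable (h : Hyp G Ω) [Finite G] [Finite Ω]
include h

/-- The induced group has a swap element. -/
theorem caseB_exists_swap (hA : AllT G Ω) (hn : ¬ NoMid G Ω) (hth : ¬ Flat G Ω) {t : G}
    (ht : IsT Ω t) : ∃ q, Two.IsSwap (Δ := ↥(fixedBy Ω t)) (q : ↥(centImage Ω t)) := by
  classical
  have : Fact (Nat.Prime 2) := ⟨Nat.prime_two⟩
  by_contra hno
  have h1 : ∀ q : ↥(centImage Ω t), orderOf q = 2 → Two.IsTau ↥(fixedBy Ω t) q := fun q hq =>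
    (Two.isTau_or_isSwap hq).resolve_right fun k => hno ⟨q, k⟩
  have two := h.two_hyp hth ht
  obtain ⟨τ, hτ⟩ := two.exists_tau
  obtain ⟨S, i, hi, hτS, hSc, hSsq, hCS, hScent, hNS⟩ := two.sylow_of_oneClass h1 hτ
  set e := Two.fixCard ↥(fixedBy Ω t) τ with he
  have he2 : 2 ≤ e := hτ.2
  have hf : fixCard Ω t = e * (2 * e - 1) := by
    rcases two.dichotomy hτ with ⟨-, hd⟩ | ⟨-, hu⟩
    · change fixCard Ω t + e = 2 * e ^ 2 at hd
      rw [Nat.mul_sub_one]
      have : e * (2 * e) = 2 * e ^ 2 := by ring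
      omega
    · obtain ⟨a, b, hab⟩ := two.nontriv
      obtain ⟨s, ⟨hs, -⟩, -⟩ := hu a b hab
      exact absurd hs (h1 s hs.1).not_isSwap
  have hev : Even e := by
    rw [hi, Nat.even_pow]
    exact ⟨even_two, fun k => by rw [hi, k, pow_zero] at he2; omega⟩
  have hfev : Even (fixCard Ω t) := hf ▸ hev.mul_right _
  set R := pre Ω t S with hR
  have hRc : Nat.card R = 4 * e := by rw [hR, h.card_pre hth ht, hSc]; ring
  have hRsq : ∀ g ∈ R, g * g = 1 := fun g hg => by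
    obtain ⟨hgC, hgS⟩ := mem_pre.1 hg
    exact h.sq_of_lift hn hth ht (g := ⟨g, hgC⟩) (hSsq _ hgS)
  have htR : t ∈ R := h.self_mem_pre hth ht S
  have hR2 : IsPGroup 2 R := IsPGroup.of_card (n := i + 2) (by rw [hRc, hi, pow_add]; ring)
  have hG3 := (h.eqs_B hA hn ht).2
  set C := Subgroup.centralizer ({t} : Set G) with hC
  have hCc : Nat.card C = 4 * e * ((2 * e - 1) * (fixCard Ω t - 1)) := by
    rw [hC, h.card_centralizer ht, hf]; ring
  have hG : Nat.card G = 4 * e * ((2 * e - 1) * (fixCard Ω t - 1) * C.index) := by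
    rw [← C.card_mul_index, hCc]; ring
  have hRi : ¬ 2 ∣ R.index := by
    rw [← even_iff_two_dvd, Nat.not_even_iff_odd]
    have e1 : R.index = (2 * e - 1) * (fixCard Ω t - 1) * C.index := by
      refine Nat.eq_of_mul_eq_mul_left (show 0 < 4 * e by omega) ?_
      rw [← hG, ← R.card_mul_index, hRc]
    rw [e1]
    rw [Nat.even_iff] at hfev
    have hf2 : 2 ≤ fixCard Ω t := two_le_fixCard h ht
    exact ((Nat.odd_iff.2 (by omega)).mul (Nat.odd_iff.2 (by omega))).mul (h.index_odd hA hn ht)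
  let P : Sylow 2 G := hR2.toSylow hRi
  haveI : IsMulCommutative ↥(P : Subgroup G) :=
    ⟨⟨fun a b => Subtype.ext (mul_comm_of_sq hRsq a.2 b.2)⟩⟩
  set N := Subgroup.normalizer (R : Set G) with hN
  have htrans : ∀ w ∈ R, w ≠ 1 → ∃ n ∈ N, n * t * n⁻¹ = w := by
    intro w hw w1
    obtain ⟨g, hg⟩ := h.isT_conj ht (hA w ⟨w1, hRsq w hw⟩)
    obtain ⟨n, hn', e⟩ := P.conj_eq_normalizer_conj_of_mem t g⁻¹ htR
      (show g⁻¹⁻¹ * t * g⁻¹ ∈ R by rw [inv_inv, hg]; exact hw)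
    rw [inv_inv, hg] at e
    exact ⟨n⁻¹, inv_mem hn', by rw [inv_inv, e]⟩
  -- the order of the normaliser
  have hNC : N ⊓ C = pre Ω t (Subgroup.normalizer (S : Set ↥(centImage Ω t))) := by
    ext g
    exact ⟨fun hg => mem_pre.2 ⟨hg.2, (mem_normalizer_pre S hg.2).1 hg.1⟩, fun hg =>
      have ⟨hgC, hgN⟩ := mem_pre.1 hg
      ⟨(mem_normalizer_pre S hgC).2 hgN, hgC⟩⟩
  have hNc : Nat.card N = (4 * e - 1) * (2 * ((2 * e - 1) * (2 * e * (e - 1)))) := by
    rw [card_eq_conj_mul N t ((R : Set G) \ {1}) fun w => ⟨fun hw => htrans w hw.1 hw.2, ?_⟩,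
      hNC, h.card_pre hth ht, hNS, Set.ncard_sdiff_singleton_of_mem (one_mem R), ← Nat.card_coe_set_eq,
      show Nat.card ↥(R : Set G) = 4 * e from hRc]
    rintro ⟨n, hn', rfl⟩
    exact ⟨(Subgroup.mem_normalizer_iff.1 hn' t).1 htR, fun k => ht.1.1 (conj_eq_one_iff.1 k)⟩
  obtain ⟨m, hm⟩ := Subgroup.card_subgroup_dvd_card N
  obtain ⟨u, hu⟩ := Nat.exists_eq_add_of_le he2
  have hf1 : fixCard Ω t - 1 = (2 * e + 1) * (e - 1) := by
    rw [hf, hu, show 2 + u - 1 = 1 + u by omega, show 2 * (2 + u) - 1 = 3 + 2 * u by omega]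
    have : (2 + u) * (3 + 2 * u) = (2 * (2 + u) + 1) * (1 + u) + 1 := by ring
    omega
  have hkey : 3 * ((4 * e - 1) * m) =
      (2 * e + 1) * ((4 * fixCard Ω t - 1) * (4 * fixCard Ω t + 3)) := by
    refine Nat.eq_of_mul_eq_mul_left (show 0 < 4 * e * ((2 * e - 1) * (e - 1)) from
      Nat.mul_pos (by omega) (Nat.mul_pos (by omega) (by omega))) ?_
    calc 4 * e * ((2 * e - 1) * (e - 1)) * (3 * ((4 * e - 1) * m))
        = 3 * (Nat.card N * m) := by rw [hNc]; ring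
      _ = 3 * Nat.card G := by rw [hm]
      _ = _ := by rw [hG, hf1, ← hG3]; ring
  have h45 : 4 * e - 1 ∣ 45 := by
    rw [hf, hu, show 2 * (2 + u) - 1 = 3 + 2 * u by omega, show 4 * (2 + u) - 1 = 7 + 4 * u by omega] at hkey
    rw [hu, show 4 * (2 + u) - 1 = 7 + 4 * u by omega]
    set d := (7 + 4 * u : ℕ)
    have hd : (d : ℤ) ∣ (2 * (2 + u) + 1) * ((4 * ((2 + u) * (3 + 2 * u)) - 1) * (4 * ((2 + u) * (3 + 2 * u)) + 3)) := by
      refine ⟨3 * m, ?_⟩
      have hk := congrArg (fun k : ℕ => (k : ℤ)) hkey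
      have hpos : 1 ≤ 4 * ((2 + u) * (3 + 2 * u)) := by
        have : 0 < (2 + u) * (3 + 2 * u) := by positivity
        omega
      push_cast [Nat.cast_sub hpos] at hk ⊢
      linarith
    have h8 : (d : ℤ) ∣ 8 * ((2 * (2 + u) + 1) * ((4 * ((2 + u) * (3 + 2 * u)) - 1) * (4 * ((2 + u) * (3 + 2 * u)) + 3))) + 45 := by
      set z : ℤ := 4 * (2 + (u : ℤ))
      have hdz : (d : ℤ) = z - 1 := by simp only [d, z]; push_cast; ring
      -- twice each factor modulo `z - 1`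
      have a1 : (d : ℤ) ∣ 2 * (2 * (2 + (u : ℤ)) + 1) - 3 := ⟨1, by rw [hdz]; simp only [z]; ring⟩
      have a2 : (d : ℤ) ∣ 2 * (4 * ((2 + (u : ℤ)) * (3 + 2 * u)) - 1) + 3 :=
        ⟨4 * (2 + (u : ℤ)) - 1, by rw [hdz]; simp only [z]; ring⟩
      have a3 : (d : ℤ) ∣ 2 * (4 * ((2 + (u : ℤ)) * (3 + 2 * u)) + 3) - 5 :=
        ⟨4 * (2 + (u : ℤ)) - 1, by rw [hdz]; simp only [z]; ring⟩
      obtain ⟨b1, e1⟩ := a1
      obtain ⟨b2, e2⟩ := a2
      obtain ⟨b3, e3⟩ := a3
      set A1 := 2 * (2 + (u : ℤ)) + 1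
      set A2 := 4 * ((2 + (u : ℤ)) * (3 + 2 * u)) - 1
      set A3 := 4 * ((2 + (u : ℤ)) * (3 + 2 * u)) + 3
      refine ⟨b1 * (2 * A2) * (2 * A3) + 3 * b2 * (2 * A3) - 9 * b3, ?_⟩
      linear_combination (2 * A2) * (2 * A3) * e1 + 3 * (2 * A3) * e2 - 9 * e3
    exact Int.natCast_dvd_natCast.1 ((Int.dvd_add_right (dvd_mul_of_dvd_right hd 8)).1 h8)
  have he4 : e = 4 := by
    have hle := Nat.le_of_dvd (by norm_num) h45
    have key : ∀ j < 4, 2 ≤ 2 ^ j → 4 * 2 ^ j - 1 ∣ 45 → 2 ^ j = 4 := by decide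
    rw [hi] at h45 he2 hle ⊢
    refine key i ?_ he2 h45
    by_contra k
    have := Nat.pow_le_pow_right (show 0 < 2 by norm_num) (show 4 ≤ i by omega)
    omega
  -- the group of order 315
  have hker : (R.normalizerMonoidHom).ker.map N.subtype = R := by
    refine le_antisymm ?_ fun g hg => ⟨⟨g, Subgroup.le_normalizer hg⟩, ?_, rfl⟩
    · rintro _ ⟨g, hg, rfl⟩
      have hcomm : ∀ r ∈ R, (g : G) * r = r * g := fun r hr => by
        have := congrArg (fun (ψ : MulAut R) => ((ψ ⟨r, hr⟩ : R) : G))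
          (hg : R.normalizerMonoidHom g = 1)
        change (g : G) * r * (g : G)⁻¹ = r at this
        exact mul_inv_eq_iff_eq_mul.1 this
      have hgC : (g : G) ∈ C := Subgroup.mem_centralizer_singleton_iff.2 (hcomm t htR)
      refine mem_pre.2 ⟨hgC, hScent _ (Subgroup.mem_centralizer_iff.2 fun q hq => ?_)⟩
      obtain ⟨a, rfl⟩ := toImage_surjective t q
      rw [← map_mul, ← map_mul]
      exact congrArg _ (Subtype.ext (hcomm a (mem_pre.2 ⟨a.2, hq⟩)).symm)
    · show R.normalizerMonoidHom _ = 1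
      refine MulEquiv.ext fun r => Subtype.ext ?_
      show g * (r : G) * g⁻¹ = r
      rw [mul_comm_of_sq hRsq hg r.2, mul_inv_cancel_right]
  set φ := R.normalizerMonoidHom
  refine card_ne_of_transitive (V := ↥R) (by rw [hRc, he4]) φ.range ?_ ?_
  · intro a b a1 b1
    obtain ⟨n, hn', e1⟩ := htrans a a.2 (fun k => a1 (Subtype.ext k))
    obtain ⟨n', hn'', e2⟩ := htrans b b.2 (fun k => b1 (Subtype.ext k))
    refine ⟨φ ⟨n' * n⁻¹, mul_mem hn'' (inv_mem hn')⟩, ⟨_, rfl⟩, Subtype.ext ?_⟩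
    show n' * n⁻¹ * (a : G) * (n' * n⁻¹)⁻¹ = b
    rw [← e1, ← e2]
    group
  · have e1 := φ.ker.card_mul_index
    rw [Subgroup.index_ker] at e1
    have hk : Nat.card φ.ker = Nat.card R := by
      conv_rhs => rw [← hker]
      rw [Subgroup.card_map_of_injective N.subtype_injective]
    rw [hk, hRc, hNc, he4] at e1
    omega

end Hyp

end Cfsg.Agent.H6.AFour
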